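import Groth.Agent.KFlatLib.Scheme.Pullback
import Groth.Agent.H9Misc.TelLocal
import Groth.Agent.H9Misc.TFactor
import Groth.Agent.ExtShX.GenericDual
import Groth.Agent.KFlatLib.Perfect.Betti
import Groth.Prelude.Def_DCoh2
import Groth.Agent.FDescent.StalkFinite

set_option autoImplicit false
set_option linter.style.haveILetI false
universe u
open CategoryTheory CategoryTheory.Limits AlgebraicGeometry TopologicalSpace Opposite Pretriangulated
attribute [local instance] HasDerivedCategory.standard

namespace Groth.Agent.PointHom7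
open KFlatLib

variable {X : Scheme.{u}} (y : X)

theorem sky_preserves : PreservesFiniteLimits (sky (X := X) y) ∧ PreservesFiniteColimits (sky (X := X) y) :=
  ((sky (X := X) y).exact_tfae.out 1 3).1 fun S hS => exact_map_sky y S hS

/-- the germ of a module with empty preimage vanishes -/
theorem subsingleton_sky_stalk {z : X} (hy : IsClosed ({y} : Set X)) (hz : z ≠ y)
    (N : ModuleCat.{u} (X.presheaf.stalk y)) : Subsingleton (stalkMod z (skyP y N)) := by
  refine subsingleton_of_forall_eq 0 fun m => ?_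
  obtain ⟨U, hU, s, rfl⟩ := exists_germP m
  let V : X.Opens := U ⊓ ⟨{y}ᶜ, hy.isOpen_compl⟩
  have hV : z ∈ V := ⟨hU, hz⟩
  rw [← germP_res (P := skyP y N) (homOfLE (inf_le_left : V ≤ U)) hV]
  have h0 : res (skyP y N) (homOfLE (inf_le_left : V ≤ U)) s = (0 : (skyP y N).obj (op V)) :=
    funext fun h => absurd rfl h.down.2
  rw [h0]
  exact map_zero _

/-- A module supported at the closed point `y` is the skyscraper of its stalk. -/
theorem nonempty_iso_sky (hy : IsClosed ({y} : Set X)) (M : X.Modules)
    (hM : ∀ z, z ≠ y → Subsingleton (M.presheaf.stalk z)) :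
    Nonempty (M ≅ (sky y).obj ((DerSch.stalkFunctor X y).obj M)) := by
  let η := (skyAdj y).unit.app M
  haveI : IsIso η := isIso_of_stalk η fun z => by
    by_cases hz : z = y
    · subst hz
      have h := (skyAdj z).left_triangle_components M
      haveI : IsIso ((skyAdj z).counit.app ((DerSch.stalkFunctor X z).obj M)) := by
        have : (skyAdj z).counit.app ((DerSch.stalkFunctor X z).obj M) =
            (skyStalkIso z).hom.app ((DerSch.stalkFunctor X z).obj M) := by
          refine stalkMod_ext (P := DCoh.toP.obj ((sky z).obj ((DerSch.stalkFunctor X z).obj M)))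
            fun U hU s => ?_
          exact (ofSkyP_germ z (𝟙 (skyP z ((DerSch.stalkFunctor X z).obj M))) U hU s).trans
            (skyEval_germ z ((DerSch.stalkFunctor X z).obj M) U hU s).symm
        rw [this]; infer_instance
      haveI : IsIso ((DerSch.stalkFunctor X z).map η ≫ (skyAdj z).counit.app _) := by
        rw [h]; exact IsIso.id _
      exact IsIso.of_isIso_comp_right _ ((skyAdj z).counit.app _)
    · have h1 : IsZero ((DerSch.stalkFunctor X z).obj M) :=
        @ModuleCat.isZero_of_subsingleton _ _ _ (hM z hz)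
      have h2 : IsZero ((DerSch.stalkFunctor X z).obj ((sky y).obj ((DerSch.stalkFunctor X y).obj M))) := by
        exact (@ModuleCat.isZero_of_subsingleton _ _ _
          (subsingleton_sky_stalk y hy hz ((DerSch.stalkFunctor X y).obj M))).of_iso ((stalkToPIso z).app _)
      exact ⟨0, h1.eq_of_src _ _, h2.eq_of_src _ _⟩
  exact ⟨@asIso _ _ _ _ η (by assumption)⟩

/-- maps into a shifted skyscraper are maps out of the stalk complex -/
theorem exists_homEquiv (N : ModuleCat.{u} (X.presheaf.stalk y)) (K : DCoh.D X) (n : ℤ)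
    [PreservesFiniteLimits (sky (X := X) y)] [PreservesFiniteColimits (sky (X := X) y)] :
    ∃ e : (K ⟶ ((DerivedCategory.singleFunctor X.Modules 0).obj ((sky y).obj N))⟦n⟧) ≃
      ((DerSch.stalkFunctor X y).mapDerivedCategory.obj K ⟶
        ((DerivedCategory.singleFunctor (ModuleCat.{u} (X.presheaf.stalk y)) 0).obj N)⟦n⟧), e 0 = 0 := by
  let G := (sky (X := X) y).mapDerivedCategory
  let a := H9Misc.TelLocal.derivedAdjunction (skyAdj (X := X) y)
  let c : G.obj (((DerivedCategory.singleFunctor (ModuleCat.{u} (X.presheaf.stalk y)) 0).obj N)⟦n⟧) ≅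
      ((DerivedCategory.singleFunctor X.Modules 0).obj ((sky y).obj N))⟦n⟧ :=
    (G.commShiftIso n).app _ ≪≫
      (shiftFunctor _ n).mapIso (((sky (X := X) y).mapDerivedCategorySingleFunctor 0).app N)
  refine ⟨((Iso.refl K).homCongr c.symm).trans (a.homEquiv _ _).symm, ?_⟩
  show (a.homEquiv _ _).symm ((Iso.refl K).homCongr c.symm 0) = 0
  simp [Iso.homCongr, Adjunction.homEquiv_counit]

theorem exists_linearMap_ne_zero {R : Type u} [CommRing R] [IsLocalRing R] {H N : Type u} [AddCommGroup H]
    [Module R H] [Module.Finite R H] [Nontrivial H] [AddCommGroup N] [Module R N] [Nontrivial N]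
    (hN : ∀ r ∈ IsLocalRing.maximalIdeal R, ∀ v : N, r • v = 0) : ∃ ψ : H →ₗ[R] N, ψ ≠ 0 := by
  set m := IsLocalRing.maximalIdeal R
  letI : Field (R ⧸ m) := Ideal.Quotient.field m
  have hne : (m • ⊤ : Submodule R H) ≠ ⊤ := fun h => by
    have hbot := Submodule.eq_bot_of_le_smul_of_le_jacobson_bot m ⊤ Module.Finite.fg_top h.ge
      (IsLocalRing.maximalIdeal_le_jacobson ⊥)
    exact bot_ne_top hbot.symm
  haveI : Nontrivial (H ⧸ (m • ⊤ : Submodule R H)) := Submodule.Quotient.nontrivial_iff.2 hne
  obtain ⟨v, hv⟩ := exists_ne (0 : H ⧸ (m • ⊤ : Submodule R H))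
  obtain ⟨w, hw⟩ := exists_ne (0 : N)
  letI : Module (R ⧸ m) N := Module.IsTorsionBySet.module (fun v r => hN r.1 r.2 v)
  haveI : IsScalarTower R (R ⧸ m) N := ⟨fun r q x => by
    obtain ⟨q, rfl⟩ := Ideal.Quotient.mk_surjective q
    exact mul_smul r q x⟩
  obtain ⟨f, hf⟩ := Module.Projective.exists_dual_ne_zero (R ⧸ m) hv
  refine ⟨((LinearMap.toSpanSingleton (R ⧸ m) N w).comp f).restrictScalars R ∘ₗ
    (m • ⊤ : Submodule R H).mkQ, fun h => ?_⟩
  obtain ⟨x, rfl⟩ := Submodule.mkQ_surjective _ v
  have := LinearMap.congr_fun h x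
  simp only [LinearMap.comp_apply, LinearMap.restrictScalars_apply, LinearMap.toSpanSingleton_apply,
    LinearMap.zero_apply] at this
  exact hw ((smul_eq_zero.1 this).resolve_left hf)

/-- A bounded above complex with finite top cohomology maps nontrivially to a residual module. -/
theorem exists_hom_ne_zero {R : Type u} [CommRing R] [IsLocalRing R] (K : DerivedCategory (ModuleCat.{u} R))
    (i : ℤ) [K.IsLE i] (hfin : Module.Finite R ((DerivedCategory.homologyFunctor (ModuleCat.{u} R) i).obj K))
    (hne : ¬ IsZero ((DerivedCategory.homologyFunctor (ModuleCat.{u} R) i).obj K))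
    (N : ModuleCat.{u} R) [Nontrivial N] (hN : ∀ r ∈ IsLocalRing.maximalIdeal R, ∀ v : N, r • v = 0) :
    ∃ φ : K ⟶ (DerivedCategory.singleFunctor (ModuleCat.{u} R) i).obj N, φ ≠ 0 := by
  let T := (DerivedCategory.TStructure.t.truncGE i).obj K
  let π : K ⟶ T := (DerivedCategory.TStructure.t.truncGEπ i).app K
  haveI : IsIso ((DerivedCategory.homologyFunctor (ModuleCat.{u} R) i).map π) :=
    H9Misc.isIso_map_truncGEπ i i le_rfl K
  haveI : DerivedCategory.IsLE T i := inferInstance
  haveI : DerivedCategory.IsGE T i := inferInstance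
  obtain ⟨H, ⟨e⟩⟩ := DerivedCategory.exists_iso_singleFunctor_obj_of_isGE_of_isLE T i
  let eH : (DerivedCategory.homologyFunctor (ModuleCat.{u} R) i).obj K ≅ H :=
    asIso ((DerivedCategory.homologyFunctor _ i).map π) ≪≫ (DerivedCategory.homologyFunctor _ i).mapIso e ≪≫
      (DerivedCategory.singleFunctorCompHomologyFunctorIso _ i).app H
  haveI : Module.Finite R H := Module.Finite.equiv eH.toLinearEquiv
  haveI : Nontrivial H := not_subsingleton_iff_nontrivial.1 fun h =>
    hne ((@ModuleCat.isZero_of_subsingleton _ _ H h).of_iso eH)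
  obtain ⟨ψ, hψ⟩ := exists_linearMap_ne_zero (H := H) (N := N) hN
  refine ⟨π ≫ e.hom ≫ (DerivedCategory.singleFunctor _ i).map (ModuleCat.ofHom ψ), fun h => hψ ?_⟩
  have h' := congrArg (DerivedCategory.homologyFunctor (ModuleCat.{u} R) i).map h
  rw [Functor.map_comp, Functor.map_comp, Functor.map_zero, Preadditive.IsIso.comp_left_eq_zero,
    Preadditive.IsIso.comp_left_eq_zero] at h'
  have hn := (DerivedCategory.singleFunctorCompHomologyFunctorIso (ModuleCat.{u} R) i).hom.naturality
    (ModuleCat.ofHom (X := H) (Y := N) ψ)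
  rw [Functor.comp_map, h', zero_comp] at hn
  have : ModuleCat.ofHom (X := H) (Y := N) ψ = 0 :=
    (Preadditive.IsIso.comp_left_eq_zero _ _).1 hn.symm
  exact congrArg ModuleCat.Hom.hom this

/-- the structure of the point sheaf at a closed point -/
theorem point_sheaf (x : X) (hx : IsClosed ({x} : Set X)) :
    (∀ z, z ≠ x → Subsingleton (((Coh.push (X.fromSpecResidueField x)).obj (Coh.structureModule _)).presheaf.stalk z)) ∧
    Nontrivial (((Coh.push (X.fromSpecResidueField x)).obj (Coh.structureModule _)).presheaf.stalk x) ∧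
    ∀ r ∈ IsLocalRing.maximalIdeal (X.presheaf.stalk x),
      ∀ v : ((Coh.push (X.fromSpecResidueField x)).obj (Coh.structureModule _)).presheaf.stalk x, r • v = 0 := by
  set ι := X.fromSpecResidueField x with hι
  haveI : IsClosedImmersion ι := IsClosedImmersion.of_isPreimmersion ι (by
    rw [hι, Scheme.range_fromSpecResidueField]; exact hx)
  set M := (Coh.push ι).obj (Coh.structureModule _) with hM
  refine ⟨fun z hz => ?_, ?_⟩
  · refine subsingleton_of_forall_eq 0 fun m => ?_
    obtain ⟨U, hU, s, rfl⟩ := TopCat.Presheaf.exists_germ_eq M.presheaf m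
    let V : X.Opens := U ⊓ ⟨{x}ᶜ, hx.isOpen_compl⟩
    have hV : z ∈ V := ⟨hU, hz⟩
    have hV0 : ι ⁻¹ᵁ V = ⊥ := by
      ext t
      simp only [Opens.coe_bot, Set.mem_empty_iff_false, iff_false]
      intro ht
      exact ht.2 (Scheme.fromSpecResidueField_apply x t)
    haveI : Subsingleton Γ(Spec (X.residueField x), ι ⁻¹ᵁ V) := by
      rw [hV0]; infer_instance
    haveI : Subsingleton Γ(M, V) := ‹Subsingleton Γ(Spec (X.residueField x), ι ⁻¹ᵁ V)›
    rw [← TopCat.Presheaf.germ_res_apply M.presheaf (homOfLE (inf_le_left : V ≤ U)) z hV s,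
      Subsingleton.elim (M.presheaf.map (homOfLE (inf_le_left : V ≤ U)).op s : Γ(M, V)) 0]
    exact map_zero _
  · have t : Spec (X.residueField x) := IsLocalRing.closedPoint (X.residueField x)
    have key : ∀ z : X, ι.base t = z → Nontrivial (M.presheaf.stalk z) ∧
        ∀ r ∈ IsLocalRing.maximalIdeal (X.presheaf.stalk z), ∀ v : M.presheaf.stalk z, r • v = 0 := by
      rintro z rfl
      obtain ⟨e⟩ := ExtShX.nonempty_stalk_push_structure ι t (KFlatLib.isField_stalk_spec (X.residueField x) t)
      refine ⟨e.toEquiv.nontrivial, fun r hr v => e.injective ?_⟩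
      rw [map_smul, map_zero]
      obtain ⟨a, ha⟩ := Ideal.Quotient.mk_surjective (e v)
      rw [← ha]
      change Ideal.Quotient.mk _ (r * a) = 0
      exact Ideal.Quotient.eq_zero_iff_mem.2 (Ideal.mul_mem_right _ _ hr)
    exact key x (Scheme.fromSpecResidueField_apply x t)

end Groth.Agent.PointHom7
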